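import Groth.Agent.EllFinLib.Main

/-!
# Slopes of submodules of tensor products on elliptic curves over finite fields
-/

set_option autoImplicit false
set_option linter.style.haveILetI false
set_option linter.unusedSectionVars false
set_option maxHeartbeats 1000000
universe u

open CategoryTheory CategoryTheory.Limits AlgebraicGeometry TopologicalSpace Opposite
open DevissLib CurvLib CurveVBLib

noncomputable section

namespace EllFinLib

attribute [local instance] Abelian.hasFiniteBiproducts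

variable {X : Scheme.{u}} {k : Type u} [Field k] [X.Over (Spec (CommRingCat.of k))]
  [IsIntegral X] [IsProper (X ↘ Spec (CommRingCat.of k))] [Smooth (X ↘ Spec (CommRingCat.of k))]
  [GeometricallyConnected (X ↘ Spec (CommRingCat.of k))] (hdim : topologicalKrullDim X = 1)

/-- All coherent submodules have degree at most `M` times their rank. -/
def Ub (k : Type u) [Field k] [X.Over (Spec (CommRingCat.of k))] (M : ℤ) (E : X.Modules) : Prop :=
  ∀ (G : X.Modules) (j : G ⟶ E), Mono j → Coh.IsCoh G → dg k G ≤ M * CurvLib.genRank G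

theorem ub_of_mono {M : ℤ} {A B : X.Modules} (u : A ⟶ B) [Mono u] (h : Ub k M B) : Ub k M A :=
  fun G j hj hG => h G (j ≫ u) inferInstance hG

theorem ub_congr {M : ℤ} {A B : X.Modules} (e : A ≅ B) (h : Ub k M B) : Ub k M A := ub_of_mono e.hom h

theorem ub_biprod {M : ℤ} {A B : X.Modules} (hA : Coh.IsCoh A) (h₁ : Ub k M A) (h₂ : Ub k M B) :
    Ub k M (A ⊞ B) := by
  haveI := CurvLib.isNoetherian k (X := X)
  intro G j hj hG
  haveI := hj
  let q : G ⟶ A := j ≫ biprod.fst
  obtain ⟨hK, hI, hrk, hdg⟩ := CurveVBLib.ker_im_data (k := k) hG hA q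
  let v : kernel q ⟶ B := kernel.ι q ≫ j ≫ biprod.snd
  haveI : Mono v := Preadditive.mono_of_cancel_zero _ fun g hg => by
    rw [← cancel_mono (kernel.ι q ≫ j), zero_comp]
    apply biprod.hom_ext
    · simp only [Category.assoc, zero_comp]
      rw [show j ≫ biprod.fst = q from rfl, kernel.condition, comp_zero]
    · simpa [v] using hg
  have b1 := h₁ _ (Abelian.image.ι q) inferInstance hI
  have b2 := h₂ _ v inferInstance hK
  rw [hdg, hrk]
  push_cast
  linarith

theorem ub_biproduct {M : ℤ} {n : ℕ} {F : Fin n → X.Modules} (hF : ∀ i, Coh.IsCoh (F i))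
    (h : ∀ i, Ub k M (F i)) : Ub k M (⨁ F) := by
  induction n with
  | zero =>
    intro G j hj hG
    haveI := hj
    have hz : IsZero G := IsZero.of_mono j (KSMod.isZero_of_isEmpty F)
    rw [CurveVBLib.dg_of_isZero hz, CurveVBLib.genRank_of_isZero hz]; simp
  | succ n ih =>
    exact ub_of_mono (KSMod.splitOff F 0).hom (ub_biprod (hF 0) (h 0) (ih (fun i => hF _) fun i => h _))

include hdim

/-- A semistable bundle is bounded by any integer at least its slope. -/
theorem ub_of_semistable {F : X.Modules} {s : ℕ} (hs : 0 < s) (hF : FlatMod.IsFinLocFreeOfRank s F)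
    (hss : ∀ (G : X.Modules) (r' : ℕ) (i : G ⟶ F), Mono i → 0 < r' → FlatMod.IsFinLocFreeOfRank r' G →
      Curv2.deg k X G r' * (s : ℤ) ≤ Curv2.deg k X F s * (r' : ℤ))
    {M : ℤ} (hM : Curv2.deg k X F s ≤ M * (s : ℤ)) : Ub k M F := by
  intro G j hj hG
  obtain ⟨hGr, -, -, -, hz⟩ := CurveVBLib.sub_data (k := k) hdim hF j hG
  rcases Nat.eq_zero_or_pos (CurvLib.genRank G) with h0 | h0
  · rw [CurveVBLib.dg_of_isZero (hz h0), h0]; simp
  · have h1 := hss G _ j hj h0 hGr
    rw [deg_eq_dg hGr] at h1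
    have h2 := mul_le_mul_of_nonneg_right hM (Int.natCast_nonneg (CurvLib.genRank G))
    refine le_of_mul_le_mul_right ?_ (show (0 : ℤ) < (s : ℤ) by exact_mod_cast hs)
    linarith

/-- Bounds and twisting. -/
theorem ub_twist {M : ℤ} {E L : X.Modules} {n : ℕ} (hE : FlatMod.IsFinLocFreeOfRank n E) (hL : PicF.IsInvertible L)
    (h : Ub k M E) : Ub k (M + Curv2.deg k X L 1) (CohB1.tensorMod L E) := by
  haveI := CurvLib.isNoetherian k (X := X)
  intro G j hj hG
  haveI := hj
  obtain ⟨eL⟩ := MiscFlat6.nonempty_dualIso hL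
  let D := MiscFlat6.dual L
  have hD : PicF.IsInvertible D := MiscFlat6.dual_isInvertible hL
  have hDL : FlatMod.IsFinLocFree D := isFinLocFree_of_rank (CurvLib.locFree_of_isInvertible hD)
  obtain ⟨w, hw⟩ := FinBundleLib.mono_tensor_left k hDL j
  obtain ⟨v, hv⟩ : ∃ v : CohB1.tensorMod D G ⟶ E, Mono v :=
    ⟨w ≫ (HilbPolyLib.assocIso D L E).inv ≫
      (HilbPolyLib.congrLeft (HilbPolyLib.swapIso D L ≪≫ eL) E ≪≫ HilbPolyLib.unitLeft E).hom, mono_comp _ _⟩
  have h1 := h _ v hv (HilbPolyLib.isCoh_tensor hD hG)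
  have hLE : FlatMod.IsFinLocFree (CohB1.tensorMod L E) :=
    VBResLib.vb_tensor _ (isFinLocFree_of_rank (CurvLib.locFree_of_isInvertible hL)) (isFinLocFree_of_rank hE)
  obtain ⟨hGr, -, -, -, -⟩ := CurveVBLib.sub_data (k := k) hdim (CurveVBLib.rank_genRank hLE) j hG
  have hd := GenusOneSSLib.deg_twist (k := k) hdim hGr hD
  rw [FinBundleLib.genRank_tensor, genRank_eq (CurvLib.locFree_of_isInvertible hD), one_mul] at h1
  have hdD : Curv2.deg k X D 1 = -Curv2.deg k X L 1 := ExtLineLib.deg_dual hdim hL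
  have e1 : dg k (CohB1.tensorMod D G) = Curv2.deg k X (CohB1.tensorMod D G) (CurvLib.genRank G) := by
    rw [dg, FinBundleLib.genRank_tensor, genRank_eq (CurvLib.locFree_of_isInvertible hD), one_mul]
    rfl
  rw [e1, hd, hdD, deg_eq_dg hGr] at h1
  linarith

variable (hg : Curv2.genus k X = 1)

include hg

/-- Line bundles of every degree. -/
theorem exists_deg (O : Spec (CommRingCat.of k) ⟶ X) (hO : O ≫ (X ↘ Spec (CommRingCat.of k)) = 𝟙 _) (e : ℤ) :
    ∃ L : X.Modules, PicF.IsInvertible L ∧ Curv2.deg k X L 1 = e := by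
  haveI := CurvLib.isNoetherian k (X := X)
  obtain ⟨P, σ, hP, -, hPd⟩ := exists_deg_one hdim hg O hO
  induction e using Int.induction_on with
  | zero => exact ⟨_, CurvLib.isInvertible_structureModule, ExtLineLib.deg_structure⟩
  | succ i ih =>
    obtain ⟨A, hA, hAd⟩ := ih
    exact ⟨_, HilbPolyLib.isInvertible_tensor hA hP, by rw [GenusZeroLib.deg_tensor k hdim hA hP, hAd, hPd]⟩
  | pred i ih =>
    obtain ⟨A, hA, hAd⟩ := ih
    exact ⟨_, HilbPolyLib.isInvertible_tensor hA (MiscFlat6.dual_isInvertible hP), by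
      rw [GenusZeroLib.deg_tensor k hdim hA (MiscFlat6.dual_isInvertible hP), hAd, ExtLineLib.deg_dual hdim hP, hPd]; ring⟩

/-- Submodules of a tensor product of semistable bundles. -/
theorem ub_tensor [Finite k] (O : Spec (CommRingCat.of k) ⟶ X) (hO : O ≫ (X ↘ Spec (CommRingCat.of k)) = 𝟙 _)
    {F F' : X.Modules} {r s : ℕ} (hr : 0 < r) (hs : 0 < s) (hF : FlatMod.IsFinLocFreeOfRank r F)
    (hF' : FlatMod.IsFinLocFreeOfRank s F')
    (hss : ∀ (G : X.Modules) (r' : ℕ) (i : G ⟶ F), Mono i → 0 < r' → FlatMod.IsFinLocFreeOfRank r' G →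
      Curv2.deg k X G r' * (r : ℤ) ≤ Curv2.deg k X F r * (r' : ℤ))
    (hss' : ∀ (G : X.Modules) (r' : ℕ) (i : G ⟶ F'), Mono i → 0 < r' → FlatMod.IsFinLocFreeOfRank r' G →
      Curv2.deg k X G r' * (s : ℤ) ≤ Curv2.deg k X F' s * (r' : ℤ)) :
    Ub k ((Curv2.deg k X F' s / (s : ℤ) + 1) + (Curv2.deg k X F r / (r : ℤ) + 2)) (CohB1.tensorMod F F') := by
  haveI := CurvLib.isNoetherian k (X := X)
  obtain ⟨L, hL, hLd⟩ := exists_deg hdim hg O hO (Curv2.deg k X F r / (r : ℤ) + 2)
  have hr' : (0 : ℤ) < r := by exact_mod_cast hr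
  have hs' : (0 : ℤ) < s := by exact_mod_cast hs
  obtain ⟨M, -, j, hj⟩ := exists_mono_sum hdim hg hF hss O hO hL (by
    rw [hLd]
    have := Int.lt_ediv_add_one_mul_self (Curv2.deg k X F r) hr'
    linarith)
  have hb : Ub k (Curv2.deg k X F' s / (s : ℤ) + 1) F' := ub_of_semistable hdim hs hF' hss'
    (le_of_lt (Int.lt_ediv_add_one_mul_self _ hs'))
  have h1 := ub_twist hdim hF' hL hb
  rw [hLd] at h1
  have h2 : Ub k ((Curv2.deg k X F' s / (s : ℤ) + 1) + (Curv2.deg k X F r / (r : ℤ) + 2))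
      (⨁ fun _ : Fin M => (tensorLeft' F').obj L) :=
    ub_biproduct (fun _ => QCohLib.isCoh_of_iso (HilbPolyLib.swapIso L F')
      (HilbPolyLib.isCoh_tensor hL (isCoh_of_locFree hF'))) fun _ => ub_congr (HilbPolyLib.swapIso F' L) h1
  obtain ⟨w, hw⟩ := FinBundleLib.mono_tensor_left k (isFinLocFree_of_rank hF') j
  have h3 := ub_of_mono ((tensorLeft' F').mapBiproduct fun _ : Fin M => L).hom h2
  exact ub_of_mono (HilbPolyLib.swapIso F F').hom (ub_of_mono w h3)

end EllFinLib

end
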