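import Groth.Agent.ExtLineLib.Main
import Groth.Agent.HomSplitLib.Split
import Groth.Agent.FinBundleLib.Slope
import Groth.Agent.KSModLib.Coherent
import Groth.Agent.GenusZeroLib.RatData
import Groth.Agent.H0Lib.Apply

/-!
# Semistable bundles on elliptic curves over a finite field embed in sums of a line bundle
-/

set_option autoImplicit false
set_option linter.style.haveILetI false
set_option linter.unusedSectionVars false
set_option maxHeartbeats 1000000
set_option backward.isDefEq.respectTransparency false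
universe u

open CategoryTheory CategoryTheory.Limits AlgebraicGeometry TopologicalSpace Opposite
open DevissLib CurvLib CurveVBLib

noncomputable section

namespace EllFinLib

attribute [local instance] Abelian.hasFiniteBiproducts

variable {X : Scheme.{u}} {k : Type u} [Field k] [X.Over (Spec (CommRingCat.of k))]
  [IsIntegral X] [IsProper (X ↘ Spec (CommRingCat.of k))] [Smooth (X ↘ Spec (CommRingCat.of k))]
  [GeometricallyConnected (X ↘ Spec (CommRingCat.of k))] (hdim : topologicalKrullDim X = 1)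
  (hg : Curv2.genus k X = 1)

include hdim hg

theorem euler_structure : Curv2.euler k X (Coh.structureModule X) = 0 := by
  haveI := FibVALib.geometricallyIntegral_of_geometricallyConnected (X ↘ Spec (CommRingCat.of k))
  rw [RRVanLib.euler_structure hdim (FibVALib.finrank_h0_structure k X hdim), hg]
  norm_num

theorem dg_eq_euler (F : X.Modules) : dg k F = Curv2.euler k X F := by
  rw [dg, euler_structure hdim hg, mul_zero, sub_zero]

theorem nonempty_iso_om : Nonempty (Coh.structureModule X ≅ CurveSDLib.om k X) := by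
  haveI := FibVALib.geometricallyIntegral_of_geometricallyConnected (X ↘ Spec (CommRingCat.of k))
  exact CurveDualLib.nonempty_iso_omega k X hdim CurvLib.isInvertible_structureModule
    (by rw [hg]; simp [Curv2.deg]) (by rw [hg, FibVALib.finrank_h0_structure k X hdim])

/-- A line bundle of degree one with a section. -/
theorem exists_deg_one (O : Spec (CommRingCat.of k) ⟶ X) (hO : O ≫ (X ↘ Spec (CommRingCat.of k)) = 𝟙 _) :
    ∃ (P : X.Modules) (σ : Coh.structureModule X ⟶ P), PicF.IsInvertible P ∧ Mono σ ∧ Curv2.deg k X P 1 = 1 := by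
  haveI := CurvLib.isNoetherian k (X := X)
  obtain ⟨p⟩ : Nonempty ↥(Spec (CommRingCat.of k)) := inferInstance
  have hx := GenusZeroLib.isClosed_rational O hO p
  haveI := HurwitzLib.dvr_stalk_closed (k := k) hdim hx
  obtain ⟨L, -, hL, hLd⟩ := GenusZeroLib.exists_idealMod_iso (k := k) hx hdim
  rw [GenusZeroLib.finrank_residueField_rational O hO p, Nat.cast_one] at hLd
  let P := MiscFlat6.dual L
  have hP : PicF.IsInvertible P := MiscFlat6.dual_isInvertible hL
  have hPd : Curv2.deg k X P 1 = 1 := by rw [ExtLineLib.deg_dual hdim hL, hLd, neg_neg]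
  have he := CurvLib.euler_curve (k := k) hdim P
  have hd : Curv2.euler k X P = 1 := by
    rw [Curv2.deg, euler_structure hdim hg] at hPd; simpa using hPd
  have hpos : 0 < Module.finrank k (Coh.structureModule X ⟶ P) := by
    rw [GenusOneSSLib.finrank_hom]; omega
  haveI := Module.nontrivial_of_finrank_pos hpos
  obtain ⟨σ, hσ⟩ := exists_ne (0 : Coh.structureModule X ⟶ P)
  exact ⟨P, σ, hP, mono_of_line (k := k) hdim
    (CurvLib.locFree_of_isInvertible CurvLib.isInvertible_structureModule) (CurvLib.locFree_of_isInvertible hP) hσ, hPd⟩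

omit [GeometricallyConnected (X ↘ Spec (CommRingCat.of k))] [IsIntegral X] [Smooth (X ↘ Spec (CommRingCat.of k))] hg hdim in
/-- Sections of a submodule. -/
theorem finrank_h0_le_of_mono {A B : X.Modules} (u : A ⟶ B) [Mono u] [Module.Finite k (Coh.HH X B 0)] :
    Module.finrank k (Coh.HH X A 0) ≤ Module.finrank k (Coh.HH X B 0) := by
  let S : ShortComplex X.Modules := ShortComplex.mk u (cokernel.π u) (cokernel.condition u)
  have hS : S.ShortExact :=
    { exact := ShortComplex.exact_of_g_is_cokernel _ (cokernelIsCokernel u)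
      mono_f := inferInstanceAs (Mono u)
      epi_g := inferInstanceAs (Epi (cokernel.π u)) }
  haveI : Module.Finite k (Coh.HH X S.X₂ 0) := ‹Module.Finite k (Coh.HH X B 0)›
  exact LinearMap.finrank_le_finrank_of_injective (CurvLib.injective₀ (k := k) hS)

omit [GeometricallyConnected (X ↘ Spec (CommRingCat.of k))] hg in
/-- Twisting up by a line bundle with a section increases sections. -/
theorem h0_twist_le {N₁ L P : X.Modules} (hN₁ : PicF.IsInvertible N₁) (hP : PicF.IsInvertible P)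
    (e₁ : CohB1.tensorMod N₁ L ≅ Coh.structureModule X) (σ : Coh.structureModule X ⟶ P) [Mono σ]
    {Q : X.Modules} {s : ℕ} (hQ : FlatMod.IsFinLocFreeOfRank s Q) :
    Module.finrank k (Coh.HH X (CohB1.tensorMod N₁ Q) 0) ≤
      Module.finrank k (Coh.HH X (CohB1.tensorMod (CohB1.tensorMod N₁ P) Q) 0) := by
  haveI := CurvLib.isNoetherian k (X := X)
  obtain ⟨w, hw⟩ := FinBundleLib.mono_tensor_left k (CurveVBLib.isFinLocFree_of_rank hQ) σ
  have hv : ∃ v : Q ⟶ CohB1.tensorMod P Q, Mono v :=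
    ⟨((HilbPolyLib.unitLeft Q).inv ≫ (HilbPolyLib.swapIso (Coh.structureModule X) Q).hom) ≫
      w ≫ (HilbPolyLib.swapIso Q P).hom, mono_comp _ _⟩
  obtain ⟨v, hv⟩ := hv
  obtain ⟨b, hb⟩ := FinBundleLib.mono_tensor_left k
    (CurveVBLib.isFinLocFree_of_rank (CurvLib.locFree_of_isInvertible hN₁)) v
  let u' : CohB1.tensorMod N₁ Q ⟶ CohB1.tensorMod (CohB1.tensorMod N₁ P) Q :=
    b ≫ (HilbPolyLib.assocIso N₁ P Q).inv
  haveI : Mono u' := mono_comp b _
  obtain ⟨hA, hB⟩ : Coh.IsCoh (CohB1.tensorMod N₁ Q) ∧ Coh.IsCoh (CohB1.tensorMod (CohB1.tensorMod N₁ P) Q) :=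
    ⟨HilbPolyLib.isCoh_tensor hN₁ (isCoh_of_locFree hQ),
      HilbPolyLib.isCoh_tensor (HilbPolyLib.isInvertible_tensor hN₁ hP) (isCoh_of_locFree hQ)⟩
  haveI := finite_HH (k := k) hB 0
  exact finrank_h0_le_of_mono u'

variable {F : X.Modules} {r : ℕ} (hF : FlatMod.IsFinLocFreeOfRank r F)
  (hss : ∀ (G : X.Modules) (r' : ℕ) (i : G ⟶ F), Mono i → 0 < r' → FlatMod.IsFinLocFreeOfRank r' G →
      Curv2.deg k X G r' * (r : ℤ) ≤ Curv2.deg k X F r * (r' : ℤ))

include hF hss

/-- Cohomology of a twist of negative slope, and of its quotients that receive all forms. -/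
theorem twist_data {N N' : X.Modules} (hN : PicF.IsInvertible N) (hN' : PicF.IsInvertible N')
    (e : CohB1.tensorMod N' N ≅ Coh.structureModule X) (hd : Curv2.deg k X F r < Curv2.deg k X N 1 * (r : ℤ))
    {Q : X.Modules} (π : F ⟶ Q) [Epi π] {s : ℕ} (hQ : FlatMod.IsFinLocFreeOfRank s Q)
    (hfac : ∀ ψ : F ⟶ N, ∃ χ : Q ⟶ N, ψ = π ≫ χ) :
    (r : ℤ) * Curv2.deg k X N 1 - Curv2.deg k X F r = (Module.finrank k (Coh.HH X (CohB1.tensorMod N' Q) 0) : ℤ)
      + (s : ℤ) * Curv2.deg k X N 1 - Curv2.deg k X Q s := by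
  haveI := CurvLib.isNoetherian k (X := X)
  haveI : (tensorLeft' N').IsEquivalence := VBP1Lib.isEquivalence_tensor (L := N') (M := N) e
  have hNd : Curv2.deg k X N' 1 = -Curv2.deg k X N 1 := by
    have h := GenusZeroLib.deg_tensor k hdim hN' hN
    rw [CurvLib.deg_congr (k := k) e 1, ExtLineLib.deg_structure] at h
    omega
  have hN'l := CurvLib.locFree_of_isInvertible hN'
  have hFc := isCoh_of_locFree hF
  have hQc := isCoh_of_locFree hQ
  have hK : Coh.IsCoh (kernel π) := QCohLib.isCoh_kernel π hFc hQc.1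
  let S : ShortComplex X.Modules := ShortComplex.mk (kernel.ι π) π (kernel.condition π)
  have hS : S.ShortExact := ShortComplex.ShortExact.mk (ShortComplex.exact_kernel π)
  let T := S.map (tensorLeft' N')
  have hT : T.ShortExact := shortExact_tensor_locFree hN'l hS
  have hT2 : Coh.IsCoh T.X₂ := HilbPolyLib.isCoh_tensor hN' hFc
  have hT3 : Coh.IsCoh T.X₃ := HilbPolyLib.isCoh_tensor hN' hQc
  -- no sections
  have h0 : Module.finrank k (Coh.HH X T.X₂ 0) = 0 := by
    by_contra hcon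
    haveI := Module.nontrivial_of_finrank_pos (R := k) (M := Coh.HH X T.X₂ 0) (Nat.pos_of_ne_zero hcon)
    obtain ⟨y, hy⟩ := exists_ne (0 : Coh.HH X T.X₂ 0)
    let σ := (GenusOneSSLib.homEquiv (k := k) T.X₂).symm y
    have hσ : σ ≠ 0 := fun h => hy ((GenusOneSSLib.homEquiv (k := k) T.X₂).symm.injective
      (h.trans (map_zero _).symm))
    let e' : (tensorLeft' N').obj N ≅ Coh.structureModule X := e
    obtain ⟨ψ, hψ⟩ := (tensorLeft' N').map_surjective (e'.hom ≫ σ)
    have hψ0 : ψ ≠ 0 := fun h => hσ (by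
      rw [h, Functor.map_zero] at hψ
      rw [← cancel_epi e'.hom, comp_zero]
      exact hψ.symm)
    have hr : (0 : ℤ) ≤ r := Int.natCast_nonneg r
    have h := hss N 1 ψ (mono_of_line (k := k) hdim (CurvLib.locFree_of_isInvertible hN) hF hψ0) one_pos
      (CurvLib.locFree_of_isInvertible hN)
    push_cast at h
    linarith
  -- the comparison on `H¹`
  haveI := finite_HH (k := k) hT2 1
  haveI := finite_HH (k := k) hT3 1
  have hbij : Function.Bijective (hMap (k := k) T.g 1) := by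
    refine ⟨(injective_iff_map_eq_zero _).2 fun v hv => ?_, fun z => ?_⟩
    · by_contra hv0
      haveI : Nontrivial (Coh.HH X (CurveSDLib.om k X) 1) :=
        Module.nontrivial_of_finrank_eq_succ (n := 0) (R := k) (CurveDualLib.h1_omega k X hdim)
      obtain ⟨w, hw⟩ := exists_ne (0 : Coh.HH X (CurveSDLib.om k X) 1)
      obtain ⟨f, hf⟩ := Module.Projective.exists_dual_ne_zero k hv0
      obtain ⟨φ, hφ⟩ := CurveSDLib.exists_hom (k := k) hdim hT2 ((LinearMap.toSpanSingleton k _ w).comp f)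
      obtain ⟨eo⟩ := nonempty_iso_om hdim hg
      let j : (tensorLeft' N').obj N ≅ CurveSDLib.om k X := e ≪≫ eo
      obtain ⟨ψ, hψ⟩ := (tensorLeft' N').map_surjective (φ ≫ j.inv)
      obtain ⟨χ, rfl⟩ := hfac ψ
      have h1 := LinearMap.congr_fun hφ v
      have h2 : T.g ≫ (tensorLeft' N').map χ = φ ≫ j.inv :=
        ((tensorLeft' N').map_comp π χ).symm.trans hψ
      have h3 : φ = T.g ≫ (tensorLeft' N').map χ ≫ j.hom :=
        calc φ = (φ ≫ j.inv) ≫ j.hom := by rw [Category.assoc, j.inv_hom_id, Category.comp_id]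
          _ = (T.g ≫ (tensorLeft' N').map χ) ≫ j.hom := congrArg (· ≫ j.hom) h2.symm
          _ = _ := Category.assoc _ _ _
      rw [h3, hMap_comp, hv, map_zero, LinearMap.comp_apply, LinearMap.toSpanSingleton_apply] at h1
      exact smul_ne_zero hf hw h1.symm
    · have h2 : Subsingleton (Coh.HH X T.X₁ 2) := CurveBddLib.vanish_two (k := k) hdim.le _ 2 le_rfl
      have hz : z ∈ LinearMap.ker (hDel (k := k) hT 1) := LinearMap.mem_ker.2 (h2.elim _ _)
      rw [← exact₃ hT 1] at hz
      exact hz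
  have h1 := (LinearEquiv.ofBijective _ hbij).finrank_eq
  have d2 := GenusOneSSLib.deg_twist (k := k) hdim hF hN'
  have d3 := GenusOneSSLib.deg_twist (k := k) hdim hQ hN'
  have e2 := CurvLib.euler_curve (k := k) hdim T.X₂
  have e3 := CurvLib.euler_curve (k := k) hdim T.X₃
  simp only [Curv2.deg, euler_structure hdim hg, mul_zero, sub_zero] at d2 d3 hNd ⊢
  change Curv2.euler k X T.X₂ = _ at d2
  change Curv2.euler k X T.X₃ = _ at d3
  change _ = (Module.finrank k (Coh.HH X T.X₃ 0) : ℤ) + _ - _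
  rw [hNd] at d2 d3
  linarith

/-- A semistable bundle of slope less than `deg L - 1` embeds in a sum of copies of `L`. -/
theorem exists_mono_sum [Finite k] (O : Spec (CommRingCat.of k) ⟶ X)
    (hO : O ≫ (X ↘ Spec (CommRingCat.of k)) = 𝟙 _) {L : X.Modules} (hL : PicF.IsInvertible L)
    (hd : Curv2.deg k X F r < (Curv2.deg k X L 1 - 1) * (r : ℤ)) :
    ∃ (M : ℕ), 0 < M ∧ ∃ (j : F ⟶ ⨁ fun _ : Fin M => L), Mono j := by
  haveI := CurvLib.isNoetherian k (X := X)
  have hFc := isCoh_of_locFree hF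
  haveI : Module.Finite k (F ⟶ L) := KSMod.finite_hom hFc (CurvLib.isCoh_of_isInvertible hL)
  haveI : Finite (F ⟶ L) := Module.finite_of_finite k
  refine ⟨Nat.card (F ⟶ L), Nat.card_pos, ?_⟩
  let fn := (Finite.equivFin (F ⟶ L)).symm
  let j : F ⟶ ⨁ fun _ : Fin (Nat.card (F ⟶ L)) => L := biproduct.lift fun i => fn i
  refine ⟨j, ?_⟩
  let Q := Abelian.image j
  let π : F ⟶ Q := Abelian.factorThruImage j
  have hfac : ∀ ψ : F ⟶ L, ∃ χ : Q ⟶ L, ψ = π ≫ χ := fun ψ =>
    ⟨Abelian.image.ι j ≫ biproduct.π _ (fn.symm ψ), by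
      rw [← Category.assoc, Abelian.image.fac, biproduct.lift_π, Equiv.apply_symm_apply]⟩
  have hB := rank_genRank (FinBundleLib.vb_biproduct (F := fun _ : Fin (Nat.card (F ⟶ L)) => L)
    fun _ => isFinLocFree_of_rank (CurvLib.locFree_of_isInvertible hL))
  obtain ⟨hK, hI, hrk, -⟩ := ker_im_data (k := k) hFc (isCoh_of_locFree hB) j
  obtain ⟨hQ, -, -, -, -⟩ := sub_data (k := k) hdim hB (Abelian.image.ι j) hI
  obtain ⟨-, -, -, -, hzK⟩ := sub_data (k := k) hdim hF (kernel.ι j) hK
  rw [genRank_eq hF] at hrk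
  -- the twist down
  obtain ⟨P, σ, hP, hσ, hPd⟩ := exists_deg_one hdim hg O hO
  obtain ⟨eL⟩ := MiscFlat6.nonempty_dualIso hL
  let N₁ := MiscFlat6.dual L
  have hN₁ : PicF.IsInvertible N₁ := MiscFlat6.dual_isInvertible hL
  let e₁ : CohB1.tensorMod N₁ L ≅ Coh.structureModule X := HilbPolyLib.swapIso _ _ ≪≫ eL
  let N₂ := CohB1.tensorMod N₁ P
  have hN₂ : PicF.IsInvertible N₂ := HilbPolyLib.isInvertible_tensor hN₁ hP
  let L₂ := MiscFlat6.dual N₂
  have hL₂ : PicF.IsInvertible L₂ := MiscFlat6.dual_isInvertible hN₂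
  obtain ⟨eN₂⟩ := MiscFlat6.nonempty_dualIso hN₂
  let e₂ : CohB1.tensorMod N₂ L₂ ≅ Coh.structureModule X := eN₂
  have hL₂d : Curv2.deg k X L₂ 1 = Curv2.deg k X L 1 - 1 := by
    rw [ExtLineLib.deg_dual hdim hN₂, GenusZeroLib.deg_tensor k hdim hN₁ hP, ExtLineLib.deg_dual hdim hL, hPd]
    ring
  haveI : (tensorLeft' N₂).IsEquivalence := VBP1Lib.isEquivalence_tensor (L := N₂) (M := L₂) e₂
  let eP : (tensorLeft' N₂).obj L ≅ P :=
    HilbPolyLib.congrLeft (HilbPolyLib.swapIso N₁ P) L ≪≫ HilbPolyLib.assocIso P N₁ L ≪≫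
      (tensorLeft' P).mapIso e₁ ≪≫ (CurveSDLib.unitR P).symm
  let e₂' : (tensorLeft' N₂).obj L₂ ≅ Coh.structureModule X := e₂
  obtain ⟨m, hm⟩ := (tensorLeft' N₂).map_surjective (e₂'.hom ≫ σ ≫ eP.inv)
  haveI : Mono m := by
    haveI : Mono ((tensorLeft' N₂).map m) := by rw [hm]; infer_instance
    exact (tensorLeft' N₂).mono_of_mono_map inferInstance
  have hfac₂ : ∀ ψ : F ⟶ L₂, ∃ χ : Q ⟶ L₂, ψ = π ≫ χ := by
    intro ψ
    obtain ⟨χ, hχ⟩ := hfac (ψ ≫ m)
    have hk : kernel.ι π ≫ ψ = 0 := by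
      rw [← cancel_mono m, Category.assoc, hχ, kernel.condition_assoc, zero_comp, zero_comp]
    exact ⟨Abelian.epiDesc π ψ hk, (Abelian.comp_epiDesc π ψ hk).symm⟩
  have hr0 : (0 : ℤ) ≤ r := Int.natCast_nonneg r
  have a₁ := twist_data hdim hg hF hss hL hN₁ e₁ (by linarith) π hQ hfac
  have a₂ := twist_data hdim hg hF hss hL₂ hN₂ e₂ (by rw [hL₂d]; exact hd) π hQ hfac₂
  rw [hL₂d] at a₂
  -- monotonicity of sections
  have hmono := h0_twist_le (k := k) hdim hN₁ hP e₁ σ hQ
  have hsr : (r : ℤ) ≤ (genRank Q : ℤ) := by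
    have hmono' : (Module.finrank k (Coh.HH X (CohB1.tensorMod N₁ Q) 0) : ℤ) ≤
        Module.finrank k (Coh.HH X (CohB1.tensorMod N₂ Q) 0) := Int.ofNat_le.mpr hmono
    linarith
  have hz : IsZero (kernel j) := hzK (by change r = genRank (kernel j) + genRank Q at hrk; omega)
  exact Preadditive.mono_of_kernel_zero (hz.eq_of_src _ _)

end EllFinLib

end
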